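import Cfsg.Agent.Lib.Helper12.TC.Fi22x14080.Tab

/-! relator checks for Fi22x14080, part 1 (generated, helper12) -/

set_option autoImplicit false
set_option maxRecDepth 100000

namespace Cfsg.Agent.Lib.Helper12.TC.Fi22x14080

open Cfsg.Agent.Lib.Helper12.TC

theorem hm0 : Fn.marksK TT cN [([0, 1], 3)] = true := by decide +kernel

theorem hm6 : Fn.marksK TT cN [([0, 4], 2)] = true := by decide +kernel

theorem hm12 : Fn.marksK TT cN [([2, 5], 2)] = true := by decide +kernel

theorem hm18 : Fn.marksK TT cN [([3, 6], 2)] = true := by decide +kernel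

theorem hm24 : Fn.marksK TT cN [([3, 7], 3)] = true := by decide +kernel

theorem hm30 : Fn.marksK TT cN [([2, 8], 2)] = true := by decide +kernel

theorem hm37 : Fn.marksK TT cN [([0, 1, 2, 3, 4, 5, 7], 9)] = true := by decide +kernel

end Cfsg.Agent.Lib.Helper12.TC.Fi22x14080
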