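import Cfsg.Agent.Lib.Helper12.TC.Fi22x14080.Tab

/-! relator checks for Fi22x14080, part 2 (generated, helper12) -/

set_option autoImplicit false
set_option maxRecDepth 100000

namespace Cfsg.Agent.Lib.Helper12.TC.Fi22x14080

open Cfsg.Agent.Lib.Helper12.TC

theorem hm1 : Fn.marksK TT cN [([0, 2], 2)] = true := by decide +kernel

theorem hm7 : Fn.marksK TT cN [([1, 4], 2)] = true := by decide +kernel

theorem hm13 : Fn.marksK TT cN [([3, 5], 2)] = true := by decide +kernel

theorem hm19 : Fn.marksK TT cN [([4, 6], 2)] = true := by decide +kernel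

theorem hm25 : Fn.marksK TT cN [([4, 7], 2)] = true := by decide +kernel

theorem hm31 : Fn.marksK TT cN [([3, 8], 2)] = true := by decide +kernel

theorem hm38 : Fn.marksK TT cN [([1, 2, 3, 4, 5, 6, 7], 9)] = true := by decide +kernel

end Cfsg.Agent.Lib.Helper12.TC.Fi22x14080
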