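import Cfsg.Agent.Lib.Helper12.TC.Fi22x14080.Tab

/-! relator checks for Fi22x14080, part 4 (generated, helper12) -/

set_option autoImplicit false
set_option maxRecDepth 100000

namespace Cfsg.Agent.Lib.Helper12.TC.Fi22x14080

open Cfsg.Agent.Lib.Helper12.TC

theorem hperm1 : Fn.permOneK TT 1 cN = true := by decide +kernel

theorem hperm4 : Fn.permOneK TT 4 cN = true := by decide +kernel

theorem hperm7 : Fn.permOneK TT 7 cN = true := by decide +kernel

theorem hm3 : Fn.marksK TT cN [([0, 3], 2)] = true := by decide +kernel

theorem hm9 : Fn.marksK TT cN [([3, 4], 3)] = true := by decide +kernel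

theorem hm15 : Fn.marksK TT cN [([0, 6], 2)] = true := by decide +kernel

theorem hm21 : Fn.marksK TT cN [([0, 7], 2)] = true := by decide +kernel

theorem hm27 : Fn.marksK TT cN [([6, 7], 2)] = true := by decide +kernel

theorem hm33 : Fn.marksK TT cN [([5, 8], 2)] = true := by decide +kernel

end Cfsg.Agent.Lib.Helper12.TC.Fi22x14080
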