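import Cfsg.Agent.Lib.Helper12.TC.Fi22x14080.Tab

/-! relator checks for Fi22x14080, part 5 (generated, helper12) -/

set_option autoImplicit false
set_option maxRecDepth 100000

namespace Cfsg.Agent.Lib.Helper12.TC.Fi22x14080

open Cfsg.Agent.Lib.Helper12.TC

theorem hperm2 : Fn.permOneK TT 2 cN = true := by decide +kernel

theorem hperm5 : Fn.permOneK TT 5 cN = true := by decide +kernel

theorem hperm8 : Fn.permOneK TT 8 cN = true := by decide +kernel

theorem hm4 : Fn.marksK TT cN [([1, 3], 2)] = true := by decide +kernel

theorem hm10 : Fn.marksK TT cN [([0, 5], 2)] = true := by decide +kernel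

theorem hm16 : Fn.marksK TT cN [([1, 6], 2)] = true := by decide +kernel

theorem hm22 : Fn.marksK TT cN [([1, 7], 2)] = true := by decide +kernel

theorem hm28 : Fn.marksK TT cN [([0, 8], 2)] = true := by decide +kernel

theorem hm34 : Fn.marksK TT cN [([6, 8], 2)] = true := by decide +kernel

end Cfsg.Agent.Lib.Helper12.TC.Fi22x14080
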