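import Cfsg.Agent.Lib.Helper12.TC.Fi22x14080.Rel0
import Cfsg.Agent.Lib.Helper12.TC.Fi22x14080.Rel1
import Cfsg.Agent.Lib.Helper12.TC.Fi22x14080.Rel2
import Cfsg.Agent.Lib.Helper12.TC.Fi22x14080.Rel3
import Cfsg.Agent.Lib.Helper12.TC.Fi22x14080.Rel4
import Cfsg.Agent.Lib.Helper12.TC.Fi22x14080.Rel5
import Cfsg.Agent.Lib.Helper12.TC.Fi22Pres

/-! the permutation representation for Fi22x14080 (generated, helper12) -/

set_option autoImplicit false
set_option maxRecDepth 100000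
set_option linter.unusedSimpArgs false

namespace Cfsg.Agent.Lib.Helper12.TC.Fi22x14080

open Cfsg.Agent.Lib.Helper12.TC Cfsg.Agent.Lib.Helper12.TC.Fi22Pres

theorem hperm : Fn.permK TT 9 cN = true := by
  refine Fn.permK_of_ones (fun x hx => ?_)
  interval_cases x
  · exact hperm0
  · exact hperm1
  · exact hperm2
  · exact hperm3
  · exact hperm4
  · exact hperm5
  · exact hperm6
  · exact hperm7
  · exact hperm8

/-- words as powers -/
def specs : List (List ℕ × ℕ) :=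
  [([0, 1], 3),
   ([0, 2], 2),
   ([1, 2], 3),
   ([0, 3], 2),
   ([1, 3], 2),
   ([2, 3], 3),
   ([0, 4], 2),
   ([1, 4], 2),
   ([2, 4], 2),
   ([3, 4], 3),
   ([0, 5], 2),
   ([1, 5], 2),
   ([2, 5], 2),
   ([3, 5], 2),
   ([4, 5], 3),
   ([0, 6], 2),
   ([1, 6], 2),
   ([2, 6], 2),
   ([3, 6], 2),
   ([4, 6], 2),
   ([5, 6], 3),
   ([0, 7], 2),
   ([1, 7], 2),
   ([2, 7], 2),
   ([3, 7], 3),
   ([4, 7], 2),
   ([5, 7], 2),
   ([6, 7], 2),
   ([0, 8], 2),
   ([1, 8], 2),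
   ([2, 8], 2),
   ([3, 8], 2),
   ([4, 8], 2),
   ([5, 8], 2),
   ([6, 8], 2),
   ([7, 8], 3),
   ([3, 2, 1, 3, 4, 5, 3, 7, 8], 10),
   ([0, 1, 2, 3, 4, 5, 7], 9),
   ([1, 2, 3, 4, 5, 6, 7], 9)]

theorem hspecs : coxWords Cfsg.Spor.Fi22.edges gen 9 ++ extraWords =
    specs.map (fun s => wpow s.1 s.2) := by
  decide +kernel

theorem hmarks : Fn.marksK TT cN specs = true :=
  Fn.marksK_cons hm0
    (Fn.marksK_cons hm1
    (Fn.marksK_cons hm2
    (Fn.marksK_cons hm3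
    (Fn.marksK_cons hm4
    (Fn.marksK_cons hm5
    (Fn.marksK_cons hm6
    (Fn.marksK_cons hm7
    (Fn.marksK_cons hm8
    (Fn.marksK_cons hm9
    (Fn.marksK_cons hm10
    (Fn.marksK_cons hm11
    (Fn.marksK_cons hm12
    (Fn.marksK_cons hm13
    (Fn.marksK_cons hm14
    (Fn.marksK_cons hm15
    (Fn.marksK_cons hm16
    (Fn.marksK_cons hm17
    (Fn.marksK_cons hm18
    (Fn.marksK_cons hm19
    (Fn.marksK_cons hm20
    (Fn.marksK_cons hm21
    (Fn.marksK_cons hm22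
    (Fn.marksK_cons hm23
    (Fn.marksK_cons hm24
    (Fn.marksK_cons hm25
    (Fn.marksK_cons hm26
    (Fn.marksK_cons hm27
    (Fn.marksK_cons hm28
    (Fn.marksK_cons hm29
    (Fn.marksK_cons hm30
    (Fn.marksK_cons hm31
    (Fn.marksK_cons hm32
    (Fn.marksK_cons hm33
    (Fn.marksK_cons hm34
    (Fn.marksK_cons hm35
    (Fn.marksK_cons hm36
    (Fn.marksK_cons hm37
    (Fn.marksK_cons hm38
    (Fn.marksK_nil TT cN)))))))))))))))))))))))))))))))))))))))

theorem hrels : Fn.relsK TT cN (coxWords Cfsg.Spor.Fi22.edges gen 9 ++ extraWords) = true := by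
  rw [hspecs]
  exact Fn.relsK_of_marksK hmarks

theorem hsub : Fn.subK TT 9 sw = true := by decide +kernel

theorem htrans : Fn.transK TT 9 cN sw = true := by decide +kernel

end Cfsg.Agent.Lib.Helper12.TC.Fi22x14080
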