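import Cfsg.Agent.Lib.Helper12.TC.Fi22x14080.Chk0
import Cfsg.Agent.Lib.Helper12.TC.Fi22x14080.Chk1
import Cfsg.Agent.Lib.Helper12.TC.Fi22x14080.Chk2
import Cfsg.Agent.Lib.Helper12.TC.Fi22x14080.Chk3
import Cfsg.Agent.Lib.Helper12.TC.Fi22x14080.Perm
import Cfsg.Agent.Lib.Helper12.TC.Fi22x14080.Fin

/-! the index theorem for Fi22x14080 (generated, helper12) -/

set_option autoImplicit false
set_option maxRecDepth 100000
set_option linter.unusedSimpArgs false

namespace Cfsg.Agent.Lib.Helper12.TC.Fi22x14080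

open Cfsg.Agent.Lib.Helper12.TC Cfsg.Agent.Lib.Helper12.TC.Fi22Pres

/-- the chunks of the certificate -/
def chunks : List (ℕ × List ℕ) :=
  [(15518, c0), (17518, c1), (19518, c2), (21518, c3), (23518, c4), (25518, c5), (27518, c6), (29518, c7), (31518, c8), (33518, c9), (35518, c10), (37518, c11), (39518, c12), (41518, c13), (43518, c14), (45518, c15), (47518, c16), (49518, c17), (51518, c18), (53518, c19), (55518, c20), (57518, c21), (59518, c22), (61518, c23), (63518, c24), (65518, c25), (67518, c26), (69518, c27), (71518, c28), (73518, c29)]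

theorem hcover : coverK cD cK chunks = true := by decide +kernel

theorem hchunks : ∀ c ∈ chunks, chunkK F RW cR0 c.2 c.1 = true := by
  unfold chunks
  simp only [List.forall_mem_cons, List.not_mem_nil, false_imp_iff, implies_true, and_true]
  exact ⟨chunk0, chunk1, chunk2, chunk3, chunk4, chunk5, chunk6, chunk7, chunk8, chunk9, chunk10, chunk11, chunk12, chunk13, chunk14, chunk15, chunk16, chunk17, chunk18, chunk19, chunk20, chunk21, chunk22, chunk23, chunk24, chunk25, chunk26, chunk27, chunk28, chunk29⟩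

/-- the subgroup generators -/
def S : Set (FreeGroup Cfsg.Spor.Fi22.Gen) := {Cfsg.Spor.Fi22.b, Cfsg.Spor.Fi22.c, Cfsg.Spor.Fi22.d, Cfsg.Spor.Fi22.e, Cfsg.Spor.Fi22.f, Cfsg.Spor.Fi22.g, Cfsg.Spor.Fi22.h, Cfsg.Spor.Fi22.i}

set_option maxRecDepth 10000 in
theorem hS : (PresentedGroup.mk (Cfsg.Spor.coxRelators Cfsg.Spor.Fi22.edges ∪
      {r | r ∈ Cfsg.Spor.Fi22.extra})) '' S =
    {γ | ∃ w ∈ sw, γ = wprod (fun i => PresentedGroup.mk (Cfsg.Spor.coxRelators Cfsg.Spor.Fi22.edges ∪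
      {r | r ∈ Cfsg.Spor.Fi22.extra}) (FreeGroup.of (gen i))) w} := by
  ext γ
  constructor
  · rintro ⟨x, hx, rfl⟩
    rcases hx with rfl | rfl | rfl | rfl | rfl | rfl | rfl | rfl
    · exact ⟨[1], by decide, by simp [wprod, gen, pow_succ, mul_assoc]⟩
    · exact ⟨[2], by decide, by simp [wprod, gen, pow_succ, mul_assoc]⟩
    · exact ⟨[3], by decide, by simp [wprod, gen, pow_succ, mul_assoc]⟩
    · exact ⟨[4], by decide, by simp [wprod, gen, pow_succ, mul_assoc]⟩
    · exact ⟨[5], by decide, by simp [wprod, gen, pow_succ, mul_assoc]⟩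
    · exact ⟨[6], by decide, by simp [wprod, gen, pow_succ, mul_assoc]⟩
    · exact ⟨[7], by decide, by simp [wprod, gen, pow_succ, mul_assoc]⟩
    · exact ⟨[8], by decide, by simp [wprod, gen, pow_succ, mul_assoc]⟩
  · rintro ⟨w, hw, rfl⟩
    simp only [sw, List.mem_cons, List.not_mem_nil, or_false] at hw
    rcases hw with rfl | rfl | rfl | rfl | rfl | rfl | rfl | rfl
    · exact ⟨Cfsg.Spor.Fi22.b, Or.inl rfl, by simp [wprod, gen, pow_succ, mul_assoc]⟩
    · exact ⟨Cfsg.Spor.Fi22.c, Or.inr (Or.inl rfl), by simp [wprod, gen, pow_succ, mul_assoc]⟩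
    · exact ⟨Cfsg.Spor.Fi22.d, Or.inr (Or.inr (Or.inl rfl)), by simp [wprod, gen, pow_succ, mul_assoc]⟩
    · exact ⟨Cfsg.Spor.Fi22.e, Or.inr (Or.inr (Or.inr (Or.inl rfl))), by simp [wprod, gen, pow_succ, mul_assoc]⟩
    · exact ⟨Cfsg.Spor.Fi22.f, Or.inr (Or.inr (Or.inr (Or.inr (Or.inl rfl)))), by simp [wprod, gen, pow_succ, mul_assoc]⟩
    · exact ⟨Cfsg.Spor.Fi22.g, Or.inr (Or.inr (Or.inr (Or.inr (Or.inr (Or.inl rfl))))), by simp [wprod, gen, pow_succ, mul_assoc]⟩
    · exact ⟨Cfsg.Spor.Fi22.h, Or.inr (Or.inr (Or.inr (Or.inr (Or.inr (Or.inr (Or.inl rfl)))))), by simp [wprod, gen, pow_succ, mul_assoc]⟩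
    · exact ⟨Cfsg.Spor.Fi22.i, Or.inr (Or.inr (Or.inr (Or.inr (Or.inr (Or.inr (Or.inr (rfl))))))), by simp [wprod, gen, pow_succ, mul_assoc]⟩

/-- the index of the subgroup and the orbits on its cosets -/
theorem main :
    ((Subgroup.closure S).map (PresentedGroup.mk (Cfsg.Spor.coxRelators Cfsg.Spor.Fi22.edges ∪
      {r | r ∈ Cfsg.Spor.Fi22.extra}))).index = cN ∧
    ∃ Φ : (PresentedGroup (Cfsg.Spor.coxRelators Cfsg.Spor.Fi22.edges ∪
      {r | r ∈ Cfsg.Spor.Fi22.extra}) ⧸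
        (Subgroup.closure S).map (PresentedGroup.mk (Cfsg.Spor.coxRelators Cfsg.Spor.Fi22.edges ∪
      {r | r ∈ Cfsg.Spor.Fi22.extra}))) ≃ Fin cN,
      ∀ (b : Fin cN) (hi : ℕ), b.val < hi → hi ≤ cN → Fn.orbInvK TT sw b.val hi = true →
        Fn.orbConnK TT sw b.val hi = true →
        Φ '' (MulAction.orbit ((Subgroup.closure S).map
          (PresentedGroup.mk (Cfsg.Spor.coxRelators Cfsg.Spor.Fi22.edges ∪
      {r | r ∈ Cfsg.Spor.Fi22.extra}))) (Φ.symm b)) =
          {i : Fin cN | b.val ≤ i.val ∧ i.val < hi} :=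
  Fn.presented_index Cfsg.Spor.Fi22.edges Cfsg.Spor.Fi22.extra gen idx 9 (by decide) hidx hgi hnodes
    extraWords hextra sw S hS F RW finrecs TT rotW chunks cD cK cR0 cR cN hdefs hchunks hcover
    hrelc hlet hperm hrels hsub htrans hfin hlen (by decide)

end Cfsg.Agent.Lib.Helper12.TC.Fi22x14080
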