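import Cfsg.Agent.Lib.Helper12.TC.Fi22x14080.Tab

/-! relator checks for Fi22x14080, part 0 (generated, helper12) -/

set_option autoImplicit false
set_option maxRecDepth 100000

namespace Cfsg.Agent.Lib.Helper12.TC.Fi22x14080

open Cfsg.Agent.Lib.Helper12.TC

theorem hm5 : Fn.marksK TT cN [([2, 3], 3)] = true := by decide +kernel

theorem hm11 : Fn.marksK TT cN [([1, 5], 2)] = true := by decide +kernel

theorem hm17 : Fn.marksK TT cN [([2, 6], 2)] = true := by decide +kernel

theorem hm23 : Fn.marksK TT cN [([2, 7], 2)] = true := by decide +kernel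

theorem hm29 : Fn.marksK TT cN [([1, 8], 2)] = true := by decide +kernel

theorem hm35 : Fn.marksK TT cN [([7, 8], 3)] = true := by decide +kernel

theorem hm36 : Fn.marksK TT cN [([3, 2, 1, 3, 4, 5, 3, 7, 8], 10)] = true := by decide +kernel

end Cfsg.Agent.Lib.Helper12.TC.Fi22x14080
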